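/-
The join of two subnormal subgroups (Wielandt).
* `pResidual_le_sup`      : `O^p(⟨A,B⟩) ≤ ⟨O^p(A), O^p(B)⟩`
* `sylow_le_sup`          : `S ≤ ⟨S ∩ A, S ∩ B⟩` if `⟨A,B⟩ = G`
* `sylow_inf_sup`         : `T ∩ ⟨A,B⟩ = ⟨T ∩ A, T ∩ B⟩`
-/
import Cfsg.Agent.S2820
import Cfsg.Agent.Lib.WeaklyClosed.Basic
import Cfsg.Agent.Lib.Components.LocalLayer
import Cfsg.Agent.Lib.Coprime.Invariant
import Cfsg.Agent.Lib.Solvable.Gaschutz

set_option autoImplicit false

namespace Cfsg.Agent.SubnormalJoin

open Subgroup Cfsg.Agent.Components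
open scoped commutatorElement

universe u

variable {G : Type u} [Group G] {p : ℕ}

theorem pPrimeGen_top : pPrimeGen p (⊤ : Subgroup G) = Cfsg.pResidual p G := by
  unfold pPrimeGen Cfsg.pResidual
  congr 1
  ext x
  simp

theorem map_pPrimeGen_subtype {N : Subgroup G} (X : Subgroup ↥N) :
    (pPrimeGen p X).map N.subtype = pPrimeGen p (X.map N.subtype) := by
  unfold pPrimeGen
  rw [MonoidHom.map_closure]
  congr 1
  ext g
  constructor
  · rintro ⟨x, ⟨hx, ho⟩, rfl⟩
    exact ⟨mem_map_of_mem _ hx, by rwa [orderOf_injective _ N.subtype_injective]⟩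
  · rintro ⟨⟨x, hx, rfl⟩, ho⟩
    exact ⟨x, ⟨hx, by rwa [orderOf_injective _ N.subtype_injective] at ho⟩, rfl⟩

theorem pPrimeGen_idem (X : Subgroup G) : pPrimeGen p (pPrimeGen p X) = pPrimeGen p X := by
  refine le_antisymm (pPrimeGen_le p _) ((closure_le _).2 ?_)
  exact fun x hx => subset_closure ⟨subset_closure hx, hx.2⟩

theorem isSubnormal_pPrimeGen {X : Subgroup G} (hX : X.IsSubnormal) :
    (pPrimeGen p X).IsSubnormal :=
  IsSubnormal.step _ _ (pPrimeGen_le p X) hX (normal_subgroupOf_of_le_normalizer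
    (le_normalizer.trans (normalizer_le_normalizer_pPrimeGen p X)))

theorem pPrimeGen_sup (A B : Subgroup G) :
    pPrimeGen p (pPrimeGen p A ⊔ pPrimeGen p B) = pPrimeGen p A ⊔ pPrimeGen p B := by
  refine le_antisymm (pPrimeGen_le p _) (sup_le ?_ ?_)
  · exact (pPrimeGen_idem A).symm.le.trans (pPrimeGen_mono le_sup_left)
  · exact (pPrimeGen_idem B).symm.le.trans (pPrimeGen_mono le_sup_right)

theorem pPrimeGen_map_le [Finite G] [Fact p.Prime] {G' : Type*} [Group G'] (f : G →* G')
    (A : Subgroup G) : pPrimeGen p (A.map f) ≤ (pPrimeGen p A).map f := by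
  refine (closure_le _).2 ?_
  rintro x ⟨⟨a, ha, rfl⟩, ho⟩
  obtain ⟨k, hk⟩ := exists_pow_coprime (p := p) a
  exact Transfer.mem_of_pow_mem_of_coprime (ho.pow_right k)
    (by rw [pow_orderOf_eq_one]; exact one_mem _)
    (by rw [← map_pow]; exact mem_map_of_mem f (subset_closure ⟨pow_mem ha _, hk⟩))

/-- If two normal subgroups generate `G`, their `O^p`'s contain `O^p(G)`. -/
theorem pResidual_le_of_normal_sup [Finite G] [Fact p.Prime] {X Y : Subgroup G} [hX : X.Normal]
    [hY : Y.Normal] (h : X ⊔ Y = ⊤) : Cfsg.pResidual p G ≤ pPrimeGen p X ⊔ pPrimeGen p Y := by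
  set W := pPrimeGen p X ⊔ pPrimeGen p Y with hW
  have hn : ∀ Z : Subgroup G, Z.Normal → (pPrimeGen p Z).Normal := fun Z hZ => by
    rw [← normalizer_eq_top_iff, eq_top_iff, ← normalizer_eq_top_iff.2 hZ]
    exact normalizer_le_normalizer_pPrimeGen p Z
  haveI := hn X hX
  haveI := hn Y hY
  haveI : W.Normal := by rw [hW]; infer_instance
  refine Transfer.pResidual_le ?_
  have hmod : ∀ Z : Subgroup G, pPrimeGen p Z ≤ W →
      IsPGroup p ↥(Z.map (QuotientGroup.mk' W)) := fun Z hZ =>
    PReduced.isPGroup_map_mk_iff.2 fun x hx => by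
      obtain ⟨k, hk⟩ := exists_pow_coprime (p := p) x
      exact ⟨k, hZ (subset_closure ⟨pow_mem hx _, hk⟩)⟩
  haveI : (X.map (QuotientGroup.mk' W)).Normal := hX.map _ (QuotientGroup.mk'_surjective W)
  have htop := (hmod X le_sup_left).to_sup_of_normal_left (hmod Y le_sup_right)
  rw [← Subgroup.map_sup, h, map_top_of_surjective _ (QuotientGroup.mk'_surjective W)] at htop
  exact htop.of_equiv Subgroup.topEquiv

theorem normal_inf_sup [Finite G] {N A B : Subgroup G} [hN : N.Normal] (hgen : A ⊔ B = ⊤)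
    (hA : N ≤ normalizer (A : Set G)) (hB : N ≤ normalizer (B : Set G)) :
    ((N ⊓ A) ⊔ (N ⊓ B)).Normal := by
  have key : ∀ A B : Subgroup G, N ≤ normalizer (A : Set G) →
      A ≤ normalizer (((N ⊓ A) ⊔ (N ⊓ B) : Subgroup G) : Set G) := by
    intro A B hA a ha
    refine WeaklyClosed.mem_normalizer_of_cj_le ?_
    show ((N ⊓ A) ⊔ (N ⊓ B)).map _ ≤ _
    rw [Subgroup.map_sup]
    refine sup_le ?_ ?_
    · rintro _ ⟨x, hx, rfl⟩
      exact mem_sup_left (mem_inf.2 ⟨hN.conj_mem x hx.1 a, mul_mem (mul_mem ha hx.2) (inv_mem ha)⟩)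
    · rintro _ ⟨y, hy, rfl⟩
      show a * y * a⁻¹ ∈ _
      rw [show a * y * a⁻¹ = (a * y * a⁻¹ * y⁻¹) * y by group]
      refine mul_mem (mem_sup_left (mem_inf.2 ⟨?_, ?_⟩)) (mem_sup_right hy)
      · exact mul_mem (hN.conj_mem y hy.1 a) (inv_mem hy.1)
      · rw [show a * y * a⁻¹ * y⁻¹ = a * (y * a⁻¹ * y⁻¹) by group]
        exact mul_mem ha ((mem_normalizer_iff.1 (hA hy.1) _).1 (inv_mem ha))
  rw [← normalizer_eq_top_iff, eq_top_iff, ← hgen]
  refine sup_le (key A B hA) ?_
  rw [sup_comm (N ⊓ A)]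
  exact key B A hB

theorem le_centralizer_of_inf_eq_bot {N A : Subgroup G} [hN : N.Normal]
    (hA : N ≤ normalizer (A : Set G)) (h : N ⊓ A = ⊥) : A ≤ centralizer (N : Set G) := by
  intro a ha n hn
  have hmem : n * a * n⁻¹ * a⁻¹ ∈ N ⊓ A := by
    refine mem_inf.2 ⟨?_, mul_mem ((mem_normalizer_iff.1 (hA hn) a).1 ha) (inv_mem ha)⟩
    rw [show n * a * n⁻¹ * a⁻¹ = n * (a * n⁻¹ * a⁻¹) by group]
    exact mul_mem hn (hN.conj_mem _ (inv_mem hn) a)
  rw [h, mem_bot] at hmem
  calc n * a = (n * a * n⁻¹ * a⁻¹) * (a * n) := by group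
    _ = a * n := by rw [hmem, one_mul]

/-- A minimal normal subgroup meeting both generators trivially is central of prime order. -/
theorem exists_prime_zpowers [Finite G] {N A B : Subgroup G} [hN : N.Normal]
    (hN1 : N ≠ ⊥) (hmin : ∀ K : Subgroup G, K.Normal → K ≤ N → K = ⊥ ∨ K = N) (hgen : A ⊔ B = ⊤)
    (hA : N ≤ normalizer (A : Set G)) (hB : N ≤ normalizer (B : Set G))
    (h : (N ⊓ A) ⊔ (N ⊓ B) = ⊥) :
    (∀ n ∈ N, ∀ g : G, g * n = n * g) ∧ ∃ r : ℕ, r.Prime ∧ Nat.card ↥N = r := by
  rw [sup_eq_bot_iff] at h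
  have hc : A ⊔ B ≤ centralizer (N : Set G) :=
    sup_le (le_centralizer_of_inf_eq_bot hA h.1) (le_centralizer_of_inf_eq_bot hB h.2)
  have hcent : ∀ n ∈ N, ∀ g : G, g * n = n * g := fun n hn g =>
    (hc (hgen ▸ mem_top g) n hn).symm
  obtain ⟨r, hr, hrdvd⟩ := Nat.exists_prime_and_dvd
    (fun h1 : Nat.card ↥N = 1 => hN1 ((Subgroup.card_eq_one).1 h1))
  haveI := Fact.mk hr
  obtain ⟨z, hz⟩ := exists_prime_orderOf_dvd_card' r hrdvd
  have hzn : (zpowers (z : G)).Normal := ⟨fun x hx g => by
    rw [hcent x (zpowers_le.2 z.2 hx) g, mul_inv_cancel_right]; exact hx⟩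
  rcases hmin _ hzn (zpowers_le.2 z.2) with h1 | h1
  · rw [zpowers_eq_bot] at h1
    rw [← Subgroup.orderOf_coe, h1, orderOf_one] at hz
    exact absurd hz.symm hr.ne_one
  · exact ⟨hcent, r, hr, by rw [← h1, Nat.card_zpowers, Subgroup.orderOf_coe, hz]⟩

theorem commutator_le_of_isSubnormal {A W X : Subgroup G} (hA : A.IsSubnormal) (hX : X ≤ A)
    (h : ⁅⁅W, X⁆, X⁆ = ⁅W, X⁆) : ⁅W, X⁆ ≤ A := by
  induction hA with
  | top => exact le_top
  | step A B hle _ hN ih =>
    rw [← h]
    refine (commutator_mono (ih (hX.trans hle)) hX).trans (commutator_le.2 fun b hb a ha => ?_)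
    have := hN.conj_mem ⟨a, hle ha⟩ ha ⟨b, hb⟩
    exact mul_mem (show b * a * b⁻¹ ∈ A from this) (inv_mem ha)

theorem pResidual_le_sup_aux [Fact p.Prime] : ∀ (n : ℕ) (G : Type u) [Group G] [Finite G],
    Nat.card G = n → ∀ A B : Subgroup G, A.IsSubnormal → B.IsSubnormal → A ⊔ B = ⊤ →
      Cfsg.pResidual p G ≤ pPrimeGen p A ⊔ pPrimeGen p B := by
  intro n
  induction n using Nat.strong_induction_on with
  | _ n ih =>
    intro G _ _ hn A B hA hB hgen
    rcases subsingleton_or_nontrivial G with hG | hG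
    · intro x _
      rw [Subsingleton.elim x 1]
      exact one_mem _
    set R := pPrimeGen p A ⊔ pPrimeGen p B with hR
    have hRs : R.IsSubnormal := Cores.isSubnormal_sup (isSubnormal_pPrimeGen hA) (isSubnormal_pPrimeGen hB)
    have hRres : pPrimeGen p R = R := pPrimeGen_sup A B
    have hRle : R ≤ Cfsg.pResidual p G := by
      rw [← hRres, ← pPrimeGen_top]; exact pPrimeGen_mono le_top
    by_contra hgoal
    -- modulo any minimal normal subgroup the claim holds
    have hquot : ∀ N : Subgroup G, N.Normal → N ≠ ⊥ → Cfsg.pResidual p G ≤ R ⊔ N := by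
      intro N hN hN1
      have hcard : Nat.card (G ⧸ N) < n := by
        rw [← hn, Subgroup.card_eq_card_quotient_mul_card_subgroup N]
        exact lt_mul_of_one_lt_right Nat.card_pos (Subgroup.one_lt_card_iff_ne_bot N |>.mpr hN1)
      have hs := QuotientGroup.mk'_surjective N
      have h1 := ih _ hcard (G ⧸ N) rfl (A.map (QuotientGroup.mk' N)) (B.map (QuotientGroup.mk' N))
        (hA.map hs) (hB.map hs) (by rw [← Subgroup.map_sup, hgen, map_top_of_surjective _ hs])
      have h2 := ((Transfer.map_pResidual_le (QuotientGroup.mk' N)).trans h1).trans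
        (sup_le_sup (pPrimeGen_map_le (p := p) _ A) (pPrimeGen_map_le (p := p) _ B))
      rwa [← Subgroup.map_sup, Subgroup.map_le_map_iff, QuotientGroup.ker_mk'] at h2
    have hnot : ∀ N : Subgroup G, N.Normal → N ≠ ⊥ → ¬ N ≤ R := fun N hN hN1 hNR =>
      hgoal ((hquot N hN hN1).trans (sup_le le_rfl hNR))
    have hnotp : ∀ N : Subgroup G, N.Normal → N ≠ ⊥ → ¬ IsPGroup p ↥N := by
      intro N hN hN1 hNp
      refine hgoal ((closure_le _).2 fun x hx => ?_)
      have hb : (Cfsg.pResidual p ↥R).map R.subtype = R := by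
        rw [Transfer.map_pResidual_subtype]; exact hRres
      have h2 := (S2820.result N R hN.isSubnormal hRs hNp hb).2
      rw [Transfer.map_pResidual_subtype] at h2
      rw [← h2]
      refine subset_closure ⟨?_, hx⟩
      rw [sup_comm]
      exact hquot N hN hN1 (subset_closure hx)
    have hmin_case : ∀ N : Subgroup G, N.Normal → N ≠ ⊥ →
        (∀ K : Subgroup G, K.Normal → K ≤ N → K = ⊥ ∨ K = N) →
        (∀ x ∈ N, ∀ g : G, g * x = x * g) ∧ ∃ r : ℕ, r.Prime ∧ Nat.card ↥N = r ∧ r ≠ p := by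
      intro N hN hN1 hmin
      haveI := hN
      have hNA := Cores.minimalNormal_le_normalizer N hmin hA
      have hNB := Cores.minimalNormal_le_normalizer N hmin hB
      rcases hmin _ (normal_inf_sup hgen hNA hNB) (sup_le inf_le_left inf_le_left) with h | h
      · obtain ⟨hc, r, hr, hcard⟩ := exists_prime_zpowers hN1 hmin hgen hNA hNB h
        refine ⟨hc, r, hr, hcard, fun hrp => hnotp N hN hN1 ?_⟩
        exact IsPGroup.of_card (n := 1) (by rw [hcard, hrp, pow_one])
      · exfalso
        have hopn : (pPrimeGen p N).Normal := by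
          rw [← normalizer_eq_top_iff, eq_top_iff, ← normalizer_eq_top_iff.2 hN]
          exact normalizer_le_normalizer_pPrimeGen p N
        rcases hmin _ hopn (pPrimeGen_le p N) with h1 | h1
        · refine hnotp N hN hN1 fun x => ?_
          obtain ⟨k, hk⟩ := exists_pow_coprime (p := p) (x : G)
          refine ⟨k, Subtype.ext ?_⟩
          rw [SubgroupClass.coe_pow, OneMemClass.coe_one, ← mem_bot, ← h1]
          exact subset_closure ⟨pow_mem x.2 _, hk⟩
        · refine hnot N hN hN1 ?_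
          haveI : ((N ⊓ A).subgroupOf N).Normal := normal_subgroupOf_of_le_normalizer
            ((le_inf le_normalizer hNA).trans (by
              intro x hx
              refine WeaklyClosed.mem_normalizer_of_cj_le ?_
              rintro _ ⟨y, hy, rfl⟩
              exact mem_inf.2 ⟨(mem_normalizer_iff.1 hx.1 y).1 hy.1, (mem_normalizer_iff.1 hx.2 y).1 hy.2⟩))
          haveI : ((N ⊓ B).subgroupOf N).Normal := normal_subgroupOf_of_le_normalizer
            ((le_inf le_normalizer hNB).trans (by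
              intro x hx
              refine WeaklyClosed.mem_normalizer_of_cj_le ?_
              rintro _ ⟨y, hy, rfl⟩
              exact mem_inf.2 ⟨(mem_normalizer_iff.1 hx.1 y).1 hy.1, (mem_normalizer_iff.1 hx.2 y).1 hy.2⟩))
          have h2 := map_mono (f := N.subtype) (pResidual_le_of_normal_sup (p := p)
            (X := (N ⊓ A).subgroupOf N) (Y := (N ⊓ B).subgroupOf N)
            (by rw [← subgroupOf_sup inf_le_left inf_le_left, h, subgroupOf_self]))
          rw [← pPrimeGen_top, Subgroup.map_sup, map_pPrimeGen_subtype, map_pPrimeGen_subtype,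
            map_pPrimeGen_subtype, ← MonoidHom.range_eq_map, range_subtype,
            map_subgroupOf_eq_of_le inf_le_left, map_subgroupOf_eq_of_le inf_le_left, h1] at h2
          exact h2.trans (sup_le_sup (pPrimeGen_mono inf_le_right) (pPrimeGen_mono inf_le_right))
    have hcore : R.normalCore = ⊥ := by
      by_contra hne
      obtain ⟨N, hNle, hN, hN1, -⟩ := Cores.exists_minimal_normal_le R.normalCore hne
      exact hnot N hN hN1 (hNle.trans (normalCore_le R))
    have hbot : ∀ x : G, (∀ g : G, g * x * g⁻¹ ∈ R) → x = 1 := fun x hx =>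
      mem_bot.1 (hcore ▸ (show x ∈ R.normalCore from hx))
    obtain ⟨N, hN, hN1, hmin⟩ := Cores.exists_minimal_normal (G := G)
    haveI := hN
    obtain ⟨hcent, r, hr, hcard, hrp⟩ := hmin_case N hN hN1 hmin
    have hNco : ∀ x ∈ N, x ^ r = 1 := fun x hx => hcard ▸
      congrArg Subtype.val (pow_card_eq_one' (x := (⟨x, hx⟩ : ↥N)))
    have hW : Cfsg.pResidual p G = R ⊔ N := by
      refine le_antisymm (hquot N hN hN1) (sup_le hRle fun x hx => subset_closure ?_)
      refine Nat.Coprime.coprime_dvd_left (orderOf_dvd_of_pow_eq_one (hNco x hx)) ?_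
      exact (Nat.coprime_primes hr Fact.out).2 hrp
    set W := Cfsg.pResidual p G with hWdef
    haveI hWn : W.Normal := PReduced.pResidual_normal p G
    have hdec : ∀ x ∈ W, ∃ a ∈ R, ∃ b ∈ N, x = a * b := by
      intro x hx
      rw [hW, mem_sup_of_normal_right] at hx
      obtain ⟨a, ha, b, hb, rfl⟩ := hx
      exact ⟨a, ha, b, hb, rfl⟩
    have hcomm : ∀ x ∈ W, ∀ y ∈ W, x * y * x⁻¹ * y⁻¹ ∈ R := by
      intro x hx y hy
      obtain ⟨a, ha, b, hb, rfl⟩ := hdec x hx
      obtain ⟨c, hc, d, hd, rfl⟩ := hdec y hy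
      have e : a * b * (c * d) * (a * b)⁻¹ * (c * d)⁻¹ = a * c * a⁻¹ * c⁻¹ := by
        calc a * b * (c * d) * (a * b)⁻¹ * (c * d)⁻¹
            = a * (b * (c * d)) * b⁻¹ * a⁻¹ * d⁻¹ * c⁻¹ := by group
          _ = a * ((c * d) * b) * b⁻¹ * a⁻¹ * d⁻¹ * c⁻¹ := by rw [hcent b hb (c * d)]
          _ = a * c * (d * a⁻¹) * d⁻¹ * c⁻¹ := by group
          _ = a * c * (a⁻¹ * d) * d⁻¹ * c⁻¹ := by rw [hcent d hd a⁻¹]
          _ = a * c * a⁻¹ * c⁻¹ := by group
      rw [e]
      exact mul_mem (mul_mem (mul_mem ha hc) (inv_mem ha)) (inv_mem hc)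
    have hab : ∀ x ∈ W, ∀ y ∈ W, x * y = y * x := by
      intro x hx y hy
      have h1 : x * y * x⁻¹ * y⁻¹ = 1 := hbot _ fun g => by
        rw [show g * (x * y * x⁻¹ * y⁻¹) * g⁻¹ =
          (g * x * g⁻¹) * (g * y * g⁻¹) * (g * x * g⁻¹)⁻¹ * (g * y * g⁻¹)⁻¹ by group]
        exact hcomm _ (hWn.conj_mem x hx g) _ (hWn.conj_mem y hy g)
      calc x * y = (x * y * x⁻¹ * y⁻¹) * (y * x) := by group
        _ = y * x := by rw [h1, one_mul]
    have hexp : ∀ x ∈ W, x ^ r = 1 := by
      intro x hx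
      refine hbot _ fun g => ?_
      rw [← conj_pow]
      obtain ⟨a, ha, b, hb, he⟩ := hdec _ (hWn.conj_mem x hx g)
      rw [he, Commute.mul_pow (hcent b hb a), hNco b hb, mul_one]
      exact pow_mem ha r
    have hWp : (Nat.card ↥W).Coprime p := by
      refine ((Nat.Prime.coprime_iff_not_dvd Fact.out).2 fun hdvd => ?_).symm
      obtain ⟨w, hw⟩ := exists_prime_orderOf_dvd_card' p hdvd
      have : p ∣ r := hw ▸ orderOf_dvd_of_pow_eq_one (Subtype.ext (by simpa using hexp w w.2))
      exact hrp ((Nat.prime_dvd_prime_iff_eq Fact.out hr).1 this).symm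
    haveI : IsMulCommutative ↥W := PReduced.isMulCommutative_of_forall hab
    haveI : Group.IsNilpotent ↥W := Cores.isNilpotent_of_isMulCommutative W
    have hnorm : ∀ C : Subgroup G, C.IsSubnormal → pPrimeGen p C ≤ R →
        C ≤ normalizer (R : Set G) := by
      intro C hC hCR c hc
      obtain ⟨x, y, rfl, hx, hy, ⟨k, hk⟩, hyc⟩ := Transfer.exists_pPart_mul (p := p) c
      refine mul_mem ?_ (le_normalizer (hCR (subset_closure ⟨zpowers_le.2 hc hy, hyc⟩)))
      have hxC : x ∈ C := zpowers_le.2 hc hx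
      have hXW : zpowers x ≤ normalizer (W : Set G) := by
        rw [normalizer_eq_top]; exact le_top
      have hcop : (Nat.card ↥(zpowers x)).Coprime (Nat.card ↥W) := by
        rw [Nat.card_zpowers, hk]
        exact (hWp.pow_right k).symm
      have hWX := commutator_le_of_isSubnormal hC (zpowers_le.2 hxC)
        (Coprime.commutator_commutator_eq hXW hcop (Or.inr inferInstance))
      refine WeaklyClosed.mem_normalizer_of_cj_le ?_
      rintro _ ⟨a, ha, rfl⟩
      show x * a * x⁻¹ ∈ R
      have haW : a ∈ W := hRle ha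
      have h1 : a * x * a⁻¹ * x⁻¹ ∈ ⁅W, zpowers x⁆ := commutator_mem_commutator haW (mem_zpowers x)
      have h2 : a * x * a⁻¹ * x⁻¹ ∈ R := hCR (subset_closure ⟨hWX h1, hWp.coprime_dvd_left
        (Subgroup.orderOf_dvd_natCard W (Coprime.commutator_le_left' hXW h1))⟩)
      have e : x * a * x⁻¹ = ((a⁻¹ * (a * x * a⁻¹ * x⁻¹)))⁻¹ := by group
      rw [e]
      exact inv_mem (mul_mem (inv_mem ha) h2)
    haveI hRn : R.Normal := by
      rw [← normalizer_eq_top_iff, eq_top_iff, ← hgen]
      exact sup_le (hnorm A hA le_sup_left) (hnorm B hB le_sup_right)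
    have hR1 : R = ⊥ := by rw [← hcore, normalCore_eq_self]
    have hp' : ∀ C : Subgroup G, C.IsSubnormal → pPrimeGen p C ≤ R → C ≤ Cfsg.pCore p G := by
      intro C hC hCR
      refine PReduced.le_pCore_of_isSubnormal hC fun c => ?_
      obtain ⟨k, hk⟩ := exists_pow_coprime (p := p) (c : G)
      refine ⟨k, Subtype.ext ?_⟩
      rw [SubgroupClass.coe_pow, OneMemClass.coe_one, ← mem_bot, ← hR1]
      exact hCR (subset_closure ⟨pow_mem c.2 _, hk⟩)
    have hall : N ≤ Cfsg.pCore p G := le_top.trans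
      (hgen ▸ sup_le (hp' A hA le_sup_left) (hp' B hB le_sup_right))
    exact hnotp N hN hN1 ((PReduced.isPGroup_pCore p).to_le hall)

/-- `O^p` of the join of two subnormal subgroups. -/
theorem pResidual_le_sup [Finite G] [Fact p.Prime] {A B : Subgroup G} (hA : A.IsSubnormal)
    (hB : B.IsSubnormal) (hgen : A ⊔ B = ⊤) :
    Cfsg.pResidual p G ≤ pPrimeGen p A ⊔ pPrimeGen p B :=
  pResidual_le_sup_aux _ G rfl A B hA hB hgen

/-! ### Sylow subgroups -/

theorem le_of_coprime_relIndex [Finite G] [Fact p.Prime] {P Q K : Subgroup G} (hQ : IsPGroup p ↥Q)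
    (hPQ : P ≤ Q) (hQK : Q ≤ K) (h : (P.relIndex K).Coprime p) : Q ≤ P := by
  rw [← relIndex_eq_one]
  obtain ⟨n, hn⟩ := IsPGroup.iff_card.1 hQ
  have h1 : P.relIndex Q ∣ p ^ n := by
    rw [← hn]; exact index_dvd_card _
  exact Nat.eq_one_of_dvd_coprimes (h.pow_right n)
    (Dvd.intro _ (relIndex_mul_relIndex _ _ _ hPQ hQK)) h1

theorem sylow_map_inf_le [Finite G] [Fact p.Prime] (T : Sylow p G) {A : Subgroup G}
    (hA : A.IsSubnormal) {G' : Type*} [Group G'] [Finite G'] (f : G →* G') :
    (T : Subgroup G).map f ⊓ A.map f ≤ ((T : Subgroup G) ⊓ A).map f := by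
  refine le_of_coprime_relIndex ((T.2.map f).to_le inf_le_left)
    (le_inf (map_mono inf_le_left) (map_mono inf_le_right)) inf_le_right ?_
  refine Nat.Coprime.coprime_dvd_left ?_ (PReduced.sylow_relIndex_coprime_subnormal T hA)
  have h := index_map_dvd ((T : Subgroup G).subgroupOf A) (f.subgroupMap_surjective A)
  refine dvd_trans (dvd_of_eq ?_) h
  show index ((((T : Subgroup G) ⊓ A).map f).subgroupOf (A.map f)) = _
  congr 1
  ext ⟨y, hy⟩
  constructor
  · rintro ⟨a, ⟨haT, haA⟩, hay⟩
    exact ⟨⟨a, haA⟩, haT, Subtype.ext hay⟩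
  · rintro ⟨⟨a, haA⟩, haT, hay⟩
    exact ⟨a, ⟨haT, haA⟩, congrArg Subtype.val hay⟩

theorem sylow_le_of_normal_sup [Finite G] [Fact p.Prime] (T : Sylow p G) {X Y : Subgroup G}
    [X.Normal] [hY : Y.Normal] (h : X ⊔ Y = ⊤) :
    (T : Subgroup G) ≤ ((T : Subgroup G) ⊓ X) ⊔ ((T : Subgroup G) ⊓ Y) := by
  intro t ht
  have hYtop : Y.map (QuotientGroup.mk' X) = ⊤ := by
    have := map_top_of_surjective _ (QuotientGroup.mk'_surjective X)
    rw [← h, Subgroup.map_sup, QuotientGroup.map_mk'_self, bot_sup_eq] at this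
    exact this
  obtain ⟨y, hy, hyt⟩ := sylow_map_inf_le T hY.isSubnormal (QuotientGroup.mk' X)
    (mem_inf.2 ⟨mem_map_of_mem _ ht, hYtop ▸ mem_top _⟩)
  have hx : y⁻¹ * t ∈ X := QuotientGroup.eq.1 hyt
  rw [show t = y * (y⁻¹ * t) by group]
  exact mul_mem (mem_sup_right hy) (mem_sup_left (mem_inf.2 ⟨mul_mem (inv_mem hy.1) ht, hx⟩))

theorem sylow_le_sup_aux [Fact p.Prime] : ∀ (n : ℕ) (G : Type u) [Group G] [Finite G],
    Nat.card G = n → ∀ A B : Subgroup G, A.IsSubnormal → B.IsSubnormal → A ⊔ B = ⊤ →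
      ∀ S : Sylow p G, (S : Subgroup G) ≤ ((S : Subgroup G) ⊓ A) ⊔ ((S : Subgroup G) ⊓ B) := by
  intro n
  induction n using Nat.strong_induction_on with
  | _ n ih =>
    intro G _ _ hn A B hA hB hgen S
    rcases subsingleton_or_nontrivial G with hG | hG
    · intro x _
      rw [Subsingleton.elim x 1]
      exact one_mem _
    set J := ((S : Subgroup G) ⊓ A) ⊔ ((S : Subgroup G) ⊓ B) with hJ
    have hJS : J ≤ (S : Subgroup G) := sup_le inf_le_left inf_le_left
    by_cases hres : Cfsg.pResidual p G = ⊤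
    · obtain ⟨N, hN, hN1, hmin⟩ := Cores.exists_minimal_normal (G := G)
      haveI := hN
      have hcard : Nat.card (G ⧸ N) < n := by
        rw [← hn, Subgroup.card_eq_card_quotient_mul_card_subgroup N]
        exact lt_mul_of_one_lt_right Nat.card_pos (Subgroup.one_lt_card_iff_ne_bot N |>.mpr hN1)
      have hs := QuotientGroup.mk'_surjective N
      have h1 := ih _ hcard (G ⧸ N) rfl (A.map (QuotientGroup.mk' N)) (B.map (QuotientGroup.mk' N))
        (hA.map hs) (hB.map hs) (by rw [← Subgroup.map_sup, hgen, map_top_of_surjective _ hs])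
        (S.mapSurjective hs)
      rw [Sylow.coe_mapSurjective] at h1
      have h2 : (S : Subgroup G) ≤ J ⊔ N := by
        have := h1.trans (sup_le_sup (sylow_map_inf_le S hA (QuotientGroup.mk' N))
          (sylow_map_inf_le S hB (QuotientGroup.mk' N)))
        rwa [← Subgroup.map_sup, Subgroup.map_le_map_iff, QuotientGroup.ker_mk'] at this
      have hdec : ∀ s ∈ (S : Subgroup G), ∃ j ∈ J, ∃ x ∈ (S : Subgroup G) ⊓ N, s = j * x := by
        intro s hs'
        obtain ⟨j, hj, x, hx, rfl⟩ := mem_sup_of_normal_right.1 (h2 hs')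
        refine ⟨j, hj, x, mem_inf.2 ⟨?_, hx⟩, rfl⟩
        simpa using mul_mem (inv_mem (hJS hj)) hs'
      suffices hSN : (S : Subgroup G) ⊓ N ≤ J by
        intro s hs'
        obtain ⟨j, hj, x, hx, rfl⟩ := hdec s hs'
        exact mul_mem hj (hSN hx)
      have hNA := Cores.minimalNormal_le_normalizer N hmin hA
      have hNB := Cores.minimalNormal_le_normalizer N hmin hB
      rcases hmin _ (normal_inf_sup hgen hNA hNB) (sup_le inf_le_left inf_le_left) with h | h
      · obtain ⟨hcent, r, hr, hcardN⟩ := exists_prime_zpowers hN1 hmin hgen hNA hNB h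
        by_cases hrp : r = p
        · by_contra hnJ
          subst hrp
          have hNS : N ≤ (S : Subgroup G) := (PReduced.le_pCore hN
            (IsPGroup.of_card (n := 1) (by rw [hcardN, pow_one]))).trans (PReduced.pCore_le_sylow S)
          have hJN : J ⊓ N = ⊥ := by
            refine (hmin _ ⟨fun x hx g => ?_⟩ inf_le_right).resolve_right fun he =>
              hnJ ((inf_le_right : _ ≤ N).trans (inf_eq_right.1 he))
            rw [hcent x (mem_inf.1 hx).2 g, mul_inv_cancel_right]; exact hx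
          have hNJ : N ⊔ J = (S : Subgroup G) := le_antisymm (sup_le hNS hJS) (h2.trans (sup_comm J N).le)
          haveI : IsMulCommutative ↥N :=
            PReduced.isMulCommutative_of_forall fun x _ y hy => hcent y hy x
          have hcop : (Nat.card ↥N).Coprime (S : Subgroup G).index := by
            rw [hcardN]
            exact hr.coprime_iff_not_dvd.2 S.not_dvd_index
          obtain ⟨K, hK⟩ := Solvable.gaschutz_exists hNS hcop hJN hNJ
          haveI : K.Normal := by
            rw [← normalizer_eq_top_iff, eq_top_iff, ← hK.sup_eq_top]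
            refine sup_le ?_ le_normalizer
            intro x hx
            rw [mem_normalizer_iff]
            intro y
            rw [← hcent x hx y, mul_inv_cancel_right]
          have h3 := Transfer.pResidual_le_of_index (p := r) (N := K) (k := 1)
            (by rw [hK.index_eq_card, hcardN, pow_one])
          rw [hres, top_le_iff] at h3
          exact hN1 (by simpa [h3] using hK.disjoint)
        · intro x hx
          suffices x = 1 by rw [this]; exact one_mem J
          rw [← orderOf_eq_one_iff]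
          obtain ⟨k, hk⟩ := IsPGroup.iff_orderOf.1 S.2 ⟨x, (mem_inf.1 hx).1⟩
          rw [Subgroup.orderOf_mk] at hk
          refine Nat.eq_one_of_dvd_coprimes (((Nat.coprime_primes Fact.out hr).2 (Ne.symm hrp)).pow_left k)
            (dvd_of_eq hk) ?_
          rw [← hcardN]
          exact Subgroup.orderOf_dvd_natCard N (mem_inf.1 hx).2
      · haveI : ((N ⊓ A).subgroupOf N).Normal := normal_subgroupOf_of_le_normalizer
          ((le_inf le_normalizer hNA).trans (by
            intro x hx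
            refine WeaklyClosed.mem_normalizer_of_cj_le ?_
            rintro _ ⟨y, hy, rfl⟩
            exact mem_inf.2 ⟨(mem_normalizer_iff.1 hx.1 y).1 hy.1, (mem_normalizer_iff.1 hx.2 y).1 hy.2⟩))
        haveI : ((N ⊓ B).subgroupOf N).Normal := normal_subgroupOf_of_le_normalizer
          ((le_inf le_normalizer hNB).trans (by
            intro x hx
            refine WeaklyClosed.mem_normalizer_of_cj_le ?_
            rintro _ ⟨y, hy, rfl⟩
            exact mem_inf.2 ⟨(mem_normalizer_iff.1 hx.1 y).1 hy.1, (mem_normalizer_iff.1 hx.2 y).1 hy.2⟩))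
        have h3 := map_mono (f := N.subtype) (sylow_le_of_normal_sup
          (PReduced.sylowOfSubnormal S hN.isSubnormal)
          (X := (N ⊓ A).subgroupOf N) (Y := (N ⊓ B).subgroupOf N)
          (by rw [← subgroupOf_sup inf_le_left inf_le_left, h, subgroupOf_self]))
        rw [PReduced.sylowOfSubnormal_coe, Subgroup.map_sup, map_inf _ _ _ N.subtype_injective,
          map_inf _ _ _ N.subtype_injective, subgroupOf_map_subtype,
          map_subgroupOf_eq_of_le inf_le_left, map_subgroupOf_eq_of_le inf_le_left] at h3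
        exact h3.trans (sup_le_sup (inf_le_inf inf_le_left inf_le_right)
          (inf_le_inf inf_le_left inf_le_right))
    · set K := Cfsg.pResidual p G with hK
      haveI hKn : K.Normal := PReduced.pResidual_normal p G
      have hcard : Nat.card ↥K < n := by
        rw [← hn]
        refine lt_of_le_of_ne (Nat.le_of_dvd Nat.card_pos (card_subgroup_dvd_card K)) fun he => ?_
        exact hres ((Subgroup.card_eq_iff_eq_top K).1 he)
      have hA' : pPrimeGen p A ≤ K := by
        rw [hK, ← pPrimeGen_top]; exact pPrimeGen_mono le_top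
      have hB' : pPrimeGen p B ≤ K := by
        rw [hK, ← pPrimeGen_top]; exact pPrimeGen_mono le_top
      have hsupK : pPrimeGen p A ⊔ pPrimeGen p B = K :=
        le_antisymm (sup_le hA' hB') (pResidual_le_sup hA hB hgen)
      have h1 := ih _ hcard ↥K rfl ((pPrimeGen p A).subgroupOf K) ((pPrimeGen p B).subgroupOf K)
        (isSubnormal_pPrimeGen hA).subgroupOf (isSubnormal_pPrimeGen hB).subgroupOf
        (by rw [← subgroupOf_sup hA' hB', hsupK, subgroupOf_self])
        (PReduced.sylowOfSubnormal S hKn.isSubnormal)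
      have h2 := map_mono (f := K.subtype) h1
      rw [PReduced.sylowOfSubnormal_coe, Subgroup.map_sup, map_inf _ _ _ K.subtype_injective,
        map_inf _ _ _ K.subtype_injective, subgroupOf_map_subtype,
        map_subgroupOf_eq_of_le hA', map_subgroupOf_eq_of_le hB'] at h2
      have hSK : (S : Subgroup G) ⊓ K ≤ J := h2.trans (sup_le_sup
        (inf_le_inf inf_le_left (pPrimeGen_le p A)) (inf_le_inf inf_le_left (pPrimeGen_le p B)))
      have hAJ : ∀ C : Subgroup G, C.IsSubnormal → (S : Subgroup G) ⊓ C ≤ J → C ≤ K ⊔ J := by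
        intro C hC hCJ c hc
        obtain ⟨r, hr, t, ht, he⟩ := PReduced.exists_eq_mul_of_pResidual
          (PReduced.sylowOfSubnormal S hC) (⟨c, hc⟩ : ↥C)
        rw [PReduced.sylowOfSubnormal_coe, mem_subgroupOf] at ht
        have he' : c = (r : G) * t := congrArg Subtype.val he
        rw [he']
        exact mul_mem (mem_sup_left ((Transfer.map_pResidual_le C.subtype) ⟨r, hr, rfl⟩))
          (mem_sup_right (hCJ ⟨ht, t.2⟩))
      intro s hs
      have hmem : s ∈ K ⊔ J :=
        (hgen ▸ sup_le (hAJ A hA le_sup_left) (hAJ B hB le_sup_right) : ⊤ ≤ K ⊔ J) (mem_top s)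
      obtain ⟨k, hk, j, hj, rfl⟩ := mem_sup_of_normal_left.1 hmem
      refine mul_mem (hSK (mem_inf.2 ⟨?_, hk⟩)) hj
      simpa using mul_mem hs (inv_mem (hJS hj))

theorem sylow_le_sup [Finite G] [Fact p.Prime] (S : Sylow p G) {A B : Subgroup G}
    (hA : A.IsSubnormal) (hB : B.IsSubnormal) (hgen : A ⊔ B = ⊤) :
    (S : Subgroup G) ≤ ((S : Subgroup G) ⊓ A) ⊔ ((S : Subgroup G) ⊓ B) :=
  sylow_le_sup_aux _ G rfl A B hA hB hgen S

/-- A Sylow intersection with the join of subnormal subgroups is the join of the intersections. -/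
theorem sylow_inf_sup [Finite G] [Fact p.Prime] (T : Sylow p G) {A B : Subgroup G}
    (hA : A.IsSubnormal) (hB : B.IsSubnormal) :
    (T : Subgroup G) ⊓ (A ⊔ B) = ((T : Subgroup G) ⊓ A) ⊔ ((T : Subgroup G) ⊓ B) := by
  refine le_antisymm ?_ (sup_le (inf_le_inf_left _ le_sup_left) (inf_le_inf_left _ le_sup_right))
  set L := A ⊔ B with hL
  have hLs : L.IsSubnormal := Cores.isSubnormal_sup hA hB
  have h1 := map_mono (f := L.subtype) (sylow_le_sup (PReduced.sylowOfSubnormal T hLs)
    (hA.subgroupOf (K := L)) (hB.subgroupOf (K := L))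
    (by rw [← subgroupOf_sup le_sup_left le_sup_right, subgroupOf_self]))
  rw [PReduced.sylowOfSubnormal_coe, Subgroup.map_sup, map_inf _ _ _ L.subtype_injective,
    map_inf _ _ _ L.subtype_injective, subgroupOf_map_subtype,
    map_subgroupOf_eq_of_le le_sup_left, map_subgroupOf_eq_of_le le_sup_right] at h1
  exact h1.trans (sup_le_sup (inf_le_inf inf_le_left le_rfl) (inf_le_inf inf_le_left le_rfl))

end Cfsg.Agent.SubnormalJoin
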